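import Groth.Agent.WC97.Prod
import Mathlib.RingTheory.Coprime.Lemmas
import Mathlib.LinearAlgebra.Charpoly.Basic

set_option autoImplicit false
universe u v

noncomputable section

open CategoryTheory AlgebraicGeometry WeilCoh
open Groth.Agent.WC97

namespace Groth.Agent.WeilK99

variable {k : Type u} [Field k] [IsAlgClosed k] {K : Type v} [Field K] [CharZero K]
  (T : Theory k K)

theorem corr_bijective {X Y P : Var k} (p : P ⟶ X) (q : P ⟶ Y) (hP : IsProd p q) (r : ℤ) :
    Function.Bijective (fun φ : ↥(T.gr P (2 * (dim X.obj.left : ℤ) + r)) => fun i : ℤ =>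
      (T.push q (i + (2 * (dim X.obj.left : ℤ) + r))) ∘ₗ
        ((LinearMap.mulRight K (φ : T.H P)).restrict (p := T.gr P i) (q := T.gr P (i + (2 * (dim X.obj.left : ℤ) + r)))
          (fun x hx => SetLike.mul_mem_graded hx φ.2)) ∘ₗ
        (T.pullDeg p i)) := by
  classical
  have hd := dim_prod T hP
  set n : ℤ := 2 * (dim X.obj.left : ℤ) + r with hn
  have key : ∀ (φ : T.gr P n) (i : ℤ) (a : T.gr X i) (b : T.H Y),
      T.tr Y (((T.push q (i + n)) (((LinearMap.mulRight K (φ : T.H P)).restrict (p := T.gr P i) (q := T.gr P (i + n))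
          (fun x hx => SetLike.mul_mem_graded hx φ.2)) (T.pullDeg p i a)) : T.H Y) * b) =
        (sgn i n : K) * T.tr P ((φ : T.H P) * (T.pull p (a : T.H X) * T.pull q b)) := by
    intro φ i a b
    rw [tr_push_mul]
    show T.tr P (T.pull p (a : T.H X) * (φ : T.H P) * T.pull q b) = _
    rw [comm_hom T (T.pull_mem p i a a.2) φ.2, smul_mul_assoc, map_smul, smul_eq_mul, mul_assoc]
  have sgn_sq : ∀ i j : ℤ, (sgn i j : K) * sgn i j = 1 := fun i j => by
    rw [sgn, ← pow_add]; exact Even.neg_one_pow ⟨_, rfl⟩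
  constructor
  · intro φ ψ h
    apply Subtype.ext
    refine eq_of_tr T φ.2 ψ.2 fun b => ?_
    refine LinearMap.congr_fun (ext_kunneth T hP (f := (T.tr P).comp (LinearMap.mulLeft K (φ : T.H P)))
      (g := (T.tr P).comp (LinearMap.mulLeft K (ψ : T.H P))) fun s t a ha c _ => ?_) b
    show T.tr P ((φ : T.H P) * (T.pull p a * T.pull q c)) = T.tr P ((ψ : T.H P) * (T.pull p a * T.pull q c))
    have h1 := key φ s ⟨a, ha⟩ c
    have h2 := key ψ s ⟨a, ha⟩ c
    have h3 := LinearMap.congr_fun (congrFun h s) ⟨a, ha⟩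
    simp only [LinearMap.comp_apply] at h3
    rw [h3, h2] at h1
    exact (mul_left_cancel₀ (left_ne_zero_of_mul_eq_one (sgn_sq s n)) h1).symm
  · intro Ψ
    let e := LinearEquiv.ofBijective (DirectSum.coeLinearMap (T.gr X)) (T.decomp X)
    let Θ : T.H X →ₗ[K] T.H Y →ₗ[K] K :=
      (DirectSum.toModule K ℤ (T.H Y →ₗ[K] K) fun i => (sgn i n : K) •
        (((LinearMap.mul K (T.H Y)).comp ((Submodule.subtype _).comp (Ψ i))).compr₂ (T.tr Y))).comp
        e.symm.toLinearMap
    have hΘ : ∀ (i : ℤ) (a : T.gr X i) (c : T.H Y),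
        Θ (a : T.H X) c = (sgn i n : K) * T.tr Y ((Ψ i a : T.H Y) * c) := by
      intro i a c
      have he : e.symm (a : T.H X) = DirectSum.lof K ℤ (fun i => T.gr X i) i a := by
        rw [LinearEquiv.symm_apply_eq]
        exact (DirectSum.coeLinearMap_of (T.gr X) i a).symm
      simp only [Θ, LinearMap.comp_apply, LinearEquiv.coe_coe, he, DirectSum.toModule_lof]
      rfl
    let ek := LinearEquiv.ofBijective (kunnethMap K (T.pull p) (T.pull q)) (T.kunneth p q hP)
    let G : T.H P →ₗ[K] K := (TensorProduct.lift Θ).comp ek.symm.toLinearMap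
    have hG : ∀ (a : T.H X) (c : T.H Y), G (T.pull p a * T.pull q c) = Θ a c := by
      intro a c
      have : ek.symm (T.pull p a * T.pull q c) = a ⊗ₜ[K] c := by
        rw [LinearEquiv.symm_apply_eq]; rfl
      simp only [G, LinearMap.comp_apply, LinearEquiv.coe_coe, this, TensorProduct.lift.tmul]
    have := T.duality P n (D P - n) (by unfold D; omega)
    obtain ⟨φ, hφ⟩ := this.bijective_left.surjective (G.comp (T.gr P (D P - n)).subtype)
    have hφ' : ∀ z ∈ T.gr P (D P - n), T.tr P ((φ : T.H P) * z) = G z :=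
      fun z hz => LinearMap.congr_fun hφ ⟨z, hz⟩
    refine ⟨φ, funext fun i => LinearMap.ext fun a => Subtype.ext ?_⟩
    refine eq_of_tr T (Submodule.coe_mem _) (Submodule.coe_mem _) fun b => ?_
    refine LinearMap.congr_fun (ext_gr T (f := (T.tr Y).comp (LinearMap.mulLeft K _))
      (g := (T.tr Y).comp (LinearMap.mulLeft K _)) fun t c hc => ?_) b
    simp only [LinearMap.comp_apply, LinearMap.mulLeft_apply]
    rw [key φ i a c]
    by_cases ht : i + t = D P - n
    · have hz := mem_of_eq T ht (SetLike.mul_mem_graded (T.pull_mem p i a a.2) (T.pull_mem q t c hc))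
      rw [hφ' _ hz, hG, hΘ, ← mul_assoc, sgn_sq, one_mul]
    · rw [tr_mul_eq_zero T φ.2 (SetLike.mul_mem_graded (T.pull_mem p i a a.2) (T.pull_mem q t c hc))
        (by unfold D at *; omega), mul_zero,
        tr_mul_eq_zero T (Submodule.coe_mem (Ψ i a)) hc (by unfold D at *; omega)]

def iter {X : Var k} (F : X ⟶ X) : ℕ → (X ⟶ X)
  | 0 => 𝟙 X
  | n + 1 => iter F n ≫ F

theorem pull_iter {X : Var k} (F : X ⟶ X) (j : ℤ) (n : ℕ) (b : T.gr X j) :
    T.pull (iter F n) (b : T.H X) = (((T.pullDeg F j) ^ n) b : T.gr X j) := by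
  induction n generalizing b with
  | zero => exact pull_id' T _
  | succ n ih =>
    rw [iter, ← pull_pull, show T.pull F (b : T.H X) = ((T.pullDeg F j b : T.gr X j) : T.H X) from rfl, ih,
      pow_succ]
    rfl

theorem exists_graph {X Y P : Var k} {p : P ⟶ X} {q : P ⟶ Y} (hP : IsProd p q) (f : Y ⟶ X) :
    ∃ j : Y ⟶ P, j ≫ p = f ∧ j ≫ q = 𝟙 Y := by
  have hw : sm f ≫ X.obj.hom = 𝟙 _ ≫ Y.obj.hom := by rw [Category.id_comp]; exact sm_hom f
  refine ⟨ObjectProperty.homMk (Over.homMk (hP.lift (sm f) (𝟙 _) hw) ?_), ?_, ?_⟩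
  · rw [← sm_hom p, ← Category.assoc, hP.lift_fst]; exact sm_hom f
  · apply ObjectProperty.hom_ext; apply Over.OverMorphism.ext; exact hP.lift_fst _ _ _
  · apply ObjectProperty.hom_ext; apply Over.OverMorphism.ext; exact hP.lift_snd _ _ _

theorem push_pull_mul_cl_graph {X Y P : Var k} {p : P ⟶ X} {q : P ⟶ Y} (f : Y ⟶ X) (j : Y ⟶ P)
    (hjp : j ≫ p = f) (hjq : j ≫ q = 𝟙 Y) (b : T.H X) (c : T.H Y) {i : ℤ} (hb : b ∈ T.gr X i) :
    T.tr P (T.pull p b * T.cl P (sm j (genericPoint Y.obj.left)) * T.pull q c) =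
      T.tr Y (T.pull f b * c) := by
  rw [comm_even T (T.pull_mem p i b hb) (T.cl_mem P _), mul_assoc, tr_cl_section T j q hjq,
    map_mul (T.pull j), pull_pull, pull_pull, hjp, hjq, pull_id']

theorem exists_kunneth_projector {X P : Var k} {p q : P ⟶ X} (hP : IsProd p q) (F : X ⟶ X)
    (hF : ∀ i j : ℤ, i ≠ j → IsCoprime (T.pullDeg F i).charpoly (T.pullDeg F j).charpoly) (i : ℤ) :
    ∃ u : ↥(T.gr P (2 * (dim X.obj.left : ℤ))),
      (u : T.H P) ∈ Submodule.span K (Set.range (T.cl P)) ∧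
        ∀ (j : ℤ) (b : ↥(T.gr X j)),
          (T.push q (j + 2 * (dim X.obj.left : ℤ))
              ⟨T.pull p (b : T.H X) * (u : T.H P),
                SetLike.mul_mem_graded (T.pull_mem p j b b.2) u.2⟩ : T.H X) =
            if j = i then (b : T.H X) else 0 := by
  classical
  have hd := dim_prod T hP
  choose J hJp hJq using fun n => exists_graph hP (iter F n)
  set η := genericPoint X.obj.left
  have hmem : ∀ n, T.cl P (sm (J n) η) ∈ T.gr P (2 * (dim X.obj.left : ℤ)) := fun n => by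
    refine mem_of_eq T ?_ (T.cl_mem P _)
    rw [codim_cast, pdim_section (J n) q (hJq n), pdim_gp]
    omega
  haveI : ∀ j, Module.Finite K (T.gr X j) := T.finite X
  let S : Finset ℤ := (Finset.Icc 0 (2 * (dim X.obj.left : ℤ))).erase i
  let χ : ℤ → Polynomial K := fun j => (T.pullDeg F j).charpoly
  obtain ⟨a, c, hac⟩ : IsCoprime (χ i) (∏ j ∈ S, χ j) :=
    IsCoprime.prod_right fun j hj => hF i j (Ne.symm (Finset.ne_of_mem_erase hj))
  set g := c * ∏ j ∈ S, χ j with hg
  let u : T.gr P (2 * (dim X.obj.left : ℤ)) :=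
    ⟨∑ n ∈ Finset.range (g.natDegree + 1), g.coeff n • T.cl P (sm (J n) η),
      Submodule.sum_mem _ fun n _ => Submodule.smul_mem _ _ (hmem n)⟩
  have hu : (u : T.H P) = ∑ n ∈ Finset.range (g.natDegree + 1), g.coeff n • T.cl P (sm (J n) η) := rfl
  refine ⟨u, ?_, ?_⟩
  · rw [hu]
    exact Submodule.sum_mem _ fun n _ => Submodule.smul_mem _ _ (Submodule.subset_span (Set.mem_range_self _))
  intro j b
  have hval : ((Polynomial.aeval (T.pullDeg F j) g b : T.gr X j) : T.H X) = if j = i then (b : T.H X) else 0 := by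
    have h0 : ∀ j, Polynomial.aeval (T.pullDeg F j) (χ j) = 0 := fun j => LinearMap.aeval_self_charpoly _
    split_ifs with hji
    · subst hji
      have h1 : g = 1 - a * χ j := by rw [hg, ← hac]; ring
      rw [h1, map_sub, map_mul, h0, mul_zero, map_one, LinearMap.sub_apply, Module.End.one_apply]
      simp
    · by_cases hr : 0 ≤ j ∧ j ≤ 2 * (dim X.obj.left : ℤ)
      · have hjS : j ∈ S := Finset.mem_erase.mpr ⟨hji, Finset.mem_Icc.mpr hr⟩
        rw [hg, ← Finset.prod_erase_mul S χ hjS, ← mul_assoc, map_mul, h0, mul_zero]; rfl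
      · have hb : T.gr X j = ⊥ := T.vanish X j (by omega)
        have := (Polynomial.aeval (T.pullDeg F j) g b).2
        exact (Submodule.mem_bot K).mp (hb ▸ this)
  rw [← hval]
  refine eq_of_tr T (push_mem T q _ _) (mem_of_eq T (by unfold D; omega) (Submodule.coe_mem _)) fun z => ?_
  rw [tr_push_mul]
  show T.tr P (T.pull p (b : T.H X) * (u : T.H P) * T.pull q z) = _
  rw [hu, Finset.mul_sum, Finset.sum_mul, map_sum, Polynomial.aeval_eq_sum_range, LinearMap.sum_apply,
    Submodule.coe_sum, Finset.sum_mul, map_sum]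
  refine Finset.sum_congr rfl fun n _ => ?_
  rw [mul_smul_comm, smul_mul_assoc, map_smul, push_pull_mul_cl_graph T _ _ (hJp n) (hJq n) _ _ b.2,
    pull_iter, LinearMap.smul_apply, Submodule.coe_smul, smul_mul_assoc, map_smul]

end Groth.Agent.WeilK99
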